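import Mathlib

/-!
# The sign of a permutation all of whose cycles have the same 2-power length
-/

set_option autoImplicit false
set_option linter.unusedSectionVars false
set_option linter.unusedVariables false

namespace Cfsg.Agent.H08.Thom

open Subgroup Equiv.Perm

universe u

theorem sign_free {α : Type*} [Fintype α] [DecidableEq α] (σ : Equiv.Perm α) (k m : ℕ) (hk : 1 ≤ k)
    (hm : Odd m) (hσ : σ ^ 2 ^ k = 1) (hfree : ∀ a, (σ ^ 2 ^ (k - 1)) a ≠ a)
    (hc : Fintype.card α = 2 ^ k * m) : Equiv.Perm.sign σ = -1 := by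
  have hall : ∀ n ∈ σ.cycleType, n = 2 ^ k := by
    intro n hn
    have h1 : n ∣ 2 ^ k := (dvd_of_mem_cycleType hn).trans (orderOf_dvd_of_pow_eq_one hσ)
    obtain ⟨j, hj, rfl⟩ := (Nat.dvd_prime_pow Nat.prime_two).1 h1
    by_cases hjk : j = k
    · rw [hjk]
    exfalso
    have hjlt : j ≤ k - 1 := by omega
    obtain ⟨c, τ, hστ, hd, hcyc, hcard⟩ := mem_cycleType_iff.1 hn
    have hord : orderOf c = 2 ^ j := by rw [hcyc.orderOf, hcard]
    have hc1 : c ^ 2 ^ (k - 1) = 1 := by
      apply orderOf_dvd_iff_pow_eq_one.1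
      rw [hord]
      exact pow_dvd_pow 2 hjlt
    obtain ⟨a, ha⟩ : ∃ a, c a ≠ a := by
      by_contra hcon
      push Not at hcon
      apply hcyc.ne_one
      exact Equiv.ext hcon
    have hτa : τ a = a := (hd a).resolve_left ha
    apply hfree a
    rw [hστ, hd.commute.mul_pow, hc1, one_mul]
    exact Function.IsFixedPt.perm_pow hτa _
  have hsupp : σ.support = Finset.univ := by
    apply Finset.eq_univ_of_forall
    intro a
    rw [mem_support]
    intro h
    apply hfree a
    exact Function.IsFixedPt.perm_pow h _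
  have hsum : σ.cycleType.sum = 2 ^ k * m := by
    rw [sum_cycleType, hsupp, Finset.card_univ, hc]
  have hrep : σ.cycleType = Multiset.replicate (Multiset.card σ.cycleType) (2 ^ k) :=
    Multiset.eq_replicate_card.2 hall
  have hcard : Multiset.card σ.cycleType = m := by
    have h1 : σ.cycleType.sum = Multiset.card σ.cycleType * 2 ^ k := by
      conv_lhs => rw [hrep]
      rw [Multiset.sum_replicate, smul_eq_mul]
    rw [hsum] at h1
    have h2 : 0 < 2 ^ k := by positivity
    rw [mul_comm] at h1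
    exact (Nat.eq_of_mul_eq_mul_right h2 h1).symm
  rw [sign_of_cycleType, hsum, hcard]
  have hev : Even (2 ^ k * m) := by
    apply Even.mul_right
    exact (Nat.even_pow.2 ⟨even_two, by omega⟩)
  have : Odd (2 ^ k * m + m) := hev.add_odd hm
  exact this.neg_one_pow

theorem exists_sign {H : Type*} [Group H] [Finite H] (W : Subgroup H) (y : H) (k m : ℕ) (hk : 1 ≤ k)
    (hm : Odd m) (hy : y ^ 2 ^ k = 1) (hfree : ∀ g : H, g * y ^ 2 ^ (k - 1) * g⁻¹ ∉ W)
    (hidx : W.index = 2 ^ k * m) : ∃ φ : H →* ℤˣ, φ y = -1 := by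
  classical
  haveI : Fintype (H ⧸ W) := Fintype.ofFinite _
  refine ⟨Equiv.Perm.sign.comp (MulAction.toPermHom H (H ⧸ W)), ?_⟩
  apply sign_free _ k m hk hm
  · rw [← map_pow, hy, map_one]
  · intro a
    induction a using QuotientGroup.induction_on with
    | H x =>
      rw [← map_pow]
      intro h
      have h1 : (y ^ 2 ^ (k - 1)) • ((x : H) : H ⧸ W) = (x : H ⧸ W) := h
      rw [MulAction.Quotient.smul_mk, eq_comm, QuotientGroup.eq] at h1
      apply hfree x⁻¹
      simpa [mul_assoc] using h1
  · rw [← Nat.card_eq_fintype_card]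
    exact hidx

end Cfsg.Agent.H08.Thom
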